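import Cfsg.Agent.Lib.Fusion.KSystem
import Cfsg.Agent.Lib.Fusion.Centric
import Cfsg.Agent.Lib.FusionChain.Puig

/-
Quadratic automorphisms and `p`-stable fusion systems.

Main results (namespace `Cfsg.Agent.FusionStable`):
* `IsQuad`, `StableAt`;
* `stableAt_of_iso`, `stableAt_of_forall_fullyNormalized`, `stableAt_of_le`, `stableAt_of_eq`;
* `pow_card_eq_one`, `stableAt_of_cyclic`;
* `exists_normalizerSystem`, `autGroup_normalizer_le`, `le_autGroup_normalizer`, `stableAt_of_normalizer`;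
* `exists_fullyNormalized_conj`;
* `exists_centric_radical_ext` : up to conjugacy every `Q` lies in a fully normalized centric radical `R` to which all
  of `Aut_F(Q)` extends.
-/

set_option autoImplicit false

namespace Cfsg.Agent.FusionStable

open Cfsg Cfsg.FusionSystem Cfsg.Agent.Fusion Cfsg.Agent.FusionChain

variable {Ω : Type*} [Group Ω] {S : Subgroup Ω} {F : FusionSystem S}

/-- `χ` acts quadratically. -/
def IsQuad {R : Type*} [Group R] (χ : MulAut R) : Prop :=
  ∀ a : R, (χ a⁻¹) * a * (χ a⁻¹) * (χ (χ a)) = 1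

theorem IsQuad.fixes {R : Type*} [Group R] {χ : MulAut R} (h : IsQuad χ) (a : R) :
    χ (a⁻¹ * χ a) = a⁻¹ * χ a := by
  have h1 := h a
  rw [mul_assoc, ← map_mul] at h1
  rw [eq_inv_of_mul_eq_one_right h1, mul_inv_rev, map_inv, inv_inv]

theorem IsQuad.pow_card_eq_one {R : Type*} [Group R] {χ : MulAut R} (h : IsQuad χ) :
    χ ^ Nat.card R = 1 := by
  refine MulEquiv.ext fun a => ?_
  have hn : ∀ n : ℕ, (χ ^ n) a = a * (a⁻¹ * χ a) ^ n := by
    intro n
    induction n with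
    | zero => simp
    | succ n ih =>
      rw [pow_succ', MulAut.mul_apply, ih, map_mul, map_pow, h.fixes, pow_succ' (a⁻¹ * χ a), mul_assoc a⁻¹, mul_inv_cancel_left]
  rw [hn, pow_card_eq_one', mul_one]
  rfl

/-- The system is `p`-stable at `Q`. -/
def StableAt (F : FusionSystem S) (p : ℕ) (Q : Subgroup Ω) : Prop :=
  ∀ χ ∈ F.autGroup Q, IsQuad χ → χ ∈ pCoreAut F p Q

theorem stableAt_of_iso {p : ℕ} {Q Q' : Subgroup Ω} {f : Ω → Ω} (hf : IsIso F Q Q' f)
    (h : StableAt F p Q') : StableAt F p Q := by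
  intro χ hχ hq
  have he : ∀ x : Q, MulAut.congr hf.equiv χ (hf.equiv x) = hf.equiv (χ x) :=
    fun x => Subtype.ext (congr_apply_coe hf χ x)
  have hq' : IsQuad (MulAut.congr hf.equiv χ) := by
    intro b
    obtain ⟨a, rfl⟩ := hf.equiv.surjective b
    rw [← map_inv hf.equiv, he, he, he, ← map_mul, ← map_mul, ← map_mul, hq a, map_one]
  refine le_pCoreAut (K := (pCoreAut F p Q').comap (MulAut.congr hf.equiv).toMonoidHom)
    ((isPGroup_pCoreAut p Q').comap_of_injective _ (MulAut.congr hf.equiv).injective)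
    (fun k hk => (congr_mem_autGroup_iff hf).1 (pCoreAut_le_autGroup p Q' hk))
    (fun α hα k hk => ?_) (h _ (congr_mem_autGroup hf hχ) hq')
  rw [Subgroup.mem_comap, map_mul, map_mul, map_inv]
  exact conj_mem_pCoreAut (congr_mem_autGroup hf hα) hk

theorem stableAt_of_forall_fullyNormalized [Finite S] {p : ℕ} [Fact p.Prime] (hS : IsPGroup p S)
    (hF : F.IsSaturated p) (h : ∀ R, F.IsFullyNormalized R → StableAt F p R) {Q : Subgroup Ω} (hQ : Q ≤ S) :
    StableAt F p Q := by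
  obtain ⟨R, f, hR, hf, himg, -⟩ := exists_fullyNormalized_map hS hF hQ
  exact stableAt_of_iso ⟨hf.mono (le_normalizerIn hQ), himg⟩ (h R hR)

theorem stableAt_of_le {T : Subgroup Ω} {E : FusionSystem T} {p : ℕ} {Q : Subgroup Ω}
    (hle : E.autGroup Q ≤ F.autGroup Q) (h : StableAt F p Q) : StableAt E p Q := by
  intro χ hχ hq
  refine le_pCoreAut (K := pCoreAut F p Q ⊓ E.autGroup Q) (isPGroup_pCoreAut p Q).to_inf_left inf_le_right
    (fun α hα k hk => ⟨conj_mem_pCoreAut (hle hα) hk.1, mul_mem (mul_mem hα hk.2) (Subgroup.inv_mem _ hα)⟩)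
    ⟨h χ (hle hχ) hq, hχ⟩

theorem stableAt_of_eq {T : Subgroup Ω} {E : FusionSystem T} {p : ℕ} {Q : Subgroup Ω}
    (he : F.autGroup Q = E.autGroup Q) (h : StableAt E p Q) : StableAt F p Q := by
  intro χ hχ hq
  unfold pCoreAut
  rw [he] at hχ ⊢
  exact h χ hχ hq

theorem stableAt_of_cyclic [Finite S] {p : ℕ} [Fact p.Prime] (hS : IsPGroup p S) {Q : Subgroup Ω}
    (hQ : Q ≤ S) (hc : IsCyclic Q) : StableAt F p Q := by
  intro χ hχ hq
  have hcomm : ∀ α : MulAut Q, α * χ = χ * α := by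
    intro α
    obtain ⟨m, hm⟩ := MonoidHom.map_cyclic (α : Q →* Q)
    refine MulEquiv.ext fun x => ?_
    have hm' : ∀ y, α y = y ^ m := fun y => hm y
    rw [MulAut.mul_apply, MulAut.mul_apply, hm', hm', map_zpow]
  refine le_pCoreAut (K := Subgroup.zpowers χ) ?_ (Subgroup.zpowers_le.2 hχ) (fun α _ k hk => ?_)
    (Subgroup.mem_zpowers χ)
  · have := finite_of_le hQ
    obtain ⟨n, hn⟩ := IsPGroup.iff_card.1 (hS.to_le hQ)
    rintro ⟨_, k, rfl⟩
    refine ⟨n, Subtype.ext ?_⟩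
    show (χ ^ k) ^ p ^ n = 1
    rw [← zpow_natCast, ← zpow_mul, mul_comm, zpow_mul, zpow_natCast, ← hn, hq.pow_card_eq_one, one_zpow]
  · obtain ⟨n, rfl⟩ := hk
    have hcn : α * χ ^ n = χ ^ n * α := Commute.zpow_right (hcomm α) n
    exact ⟨n, by rw [hcn, mul_inv_cancel_right]⟩

/-! ### Normalizer systems -/

theorem exists_normalizerSystem {R : Subgroup Ω} (hR : R ≤ S) :
    ∃ N : FusionSystem (normalizerIn S R), F.IsNormalizerSystem R N := by
  have h : ∀ P, (kSys F R ⊤ hR).Hom P = F.normalizerHom R P := kSys_top_hom hR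
  revert h
  generalize kSys F R ⊤ hR = E
  revert E
  rw [NK_top]
  exact fun E h => ⟨E, h⟩

theorem isMap_normalizer_iff {R : Subgroup Ω} {N : FusionSystem (normalizerIn S R)}
    (hN : F.IsNormalizerSystem R N) (hR : R ≤ S) {P : Subgroup Ω} {f : Ω → Ω} :
    IsMap N P f ↔ KRel F R ⊤ P f := by
  rw [← isMap_kSys (hQ := hR)]
  unfold IsMap
  rw [hN P, kSys_top_hom hR P]

theorem autGroup_normalizer_le {R : Subgroup Ω} {N : FusionSystem (normalizerIn S R)}
    (hN : F.IsNormalizerSystem R N) (hR : R ≤ S) {Q : Subgroup Ω} (hQ : Q ≤ normalizerIn S R) :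
    N.autGroup Q ≤ F.autGroup Q := by
  intro α hα
  obtain ⟨-, -, f', hf', he, -⟩ := (isMap_normalizer_iff hN hR).1 ((mem_autGroup_iff hQ).1 hα)
  exact (mem_autGroup_iff (hQ.trans inf_le_left)).2 ((hf'.mono le_sup_left).congr he)

/-- All automorphisms of `Q` extend to `P`. -/
def Ext (F : FusionSystem S) (Q P : Subgroup Ω) : Prop :=
  ∀ α ∈ F.autGroup Q, ∃ g, IsIso F P P g ∧ ∀ x ∈ Q, g x = autFn α x

theorem le_autGroup_normalizer {R : Subgroup Ω} {N : FusionSystem (normalizerIn S R)}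
    (hN : F.IsNormalizerSystem R N) (hR : R ≤ S) {Q : Subgroup Ω} (hQ : Q ≤ R) (he : Ext F Q R) :
    F.autGroup Q ≤ N.autGroup Q := by
  intro α hα
  obtain ⟨g, hg, hgα⟩ := he α hα
  obtain ⟨β, -, hβ⟩ := exists_aut_of_isIso hg
  have hQN : Q ≤ normalizerIn S R := hQ.trans (le_normalizerIn hR)
  refine (mem_autGroup_iff hQN).2 ((isMap_normalizer_iff hN hR).2 ?_)
  refine ⟨by rwa [NK_top], fun x hx => ?_, g, ?_, hgα, β, trivial, hβ⟩
  · rw [NK_top]
    exact hQN (autFn_mem α hx)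
  · rw [sup_eq_right.2 hQ]
    exact hg.1

theorem exists_fullyNormalized_conj [Finite S] (F : FusionSystem S) {Q : Subgroup Ω} (hQ : Q ≤ S) :
    ∃ Q', F.IsConj Q Q' ∧ F.IsFullyNormalized Q' := by
  have : Finite {R : Subgroup Ω // R ≤ S} := Finite.of_injective (fun R => (R.1.subgroupOf S))
    fun A B h => Subtype.ext (by
      have := congrArg (Subgroup.map S.subtype) h
      simp only [Subgroup.map_subgroupOf_eq_of_le A.2, Subgroup.map_subgroupOf_eq_of_le B.2] at this
      exact this)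
  let s : Set {R : Subgroup Ω // R ≤ S} := {R | F.IsConj Q R.1}
  obtain ⟨⟨Q', hQ'S⟩, hQ', hmax⟩ := Set.exists_max_image s (fun R => Nat.card (normalizerIn S R.1))
    s.toFinite ⟨⟨Q, hQ⟩, isConj_refl F hQ⟩
  exact ⟨Q', hQ', hQ'S, fun R hR => hmax ⟨R, (isConj_le hR).2⟩ (isConj_trans hQ' hR)⟩

/-- If all automorphisms of `Q` extend to `R ≥ Q`, stability of `N_F(R)` gives stability of `F` at `Q`. -/
theorem stableAt_of_normalizer [Finite S] {p : ℕ} {R : Subgroup Ω} {N : FusionSystem (normalizerIn S R)}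
    (hN : F.IsNormalizerSystem R N) (hR : R ≤ S) (hst : ∀ Q', N.IsFullyNormalized Q' → StableAt N p Q')
    {Q : Subgroup Ω} (hQ : Q ≤ R) (he : Ext F Q R) : StableAt F p Q := by
  have hQN : Q ≤ normalizerIn S R := hQ.trans (le_normalizerIn hR)
  have := finite_of_le (S := S) (P := normalizerIn S R) inf_le_left
  obtain ⟨Q', hc, hQ'⟩ := exists_fullyNormalized_conj N hQN
  obtain ⟨f, hf⟩ := isConj_iff.1 hc
  exact stableAt_of_eq (le_antisymm (le_autGroup_normalizer hN hR hQ he) (autGroup_normalizer_le hN hR hQN))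
    (stableAt_of_iso hf (hst Q' hQ'))

/-! ### Centric radical overgroups -/

theorem Ext.transport {Q P P' : Subgroup Ω} {f : Ω → Ω} (he : Ext F Q P) (hQ : Q ≤ P)
    (hf : IsIso F P P' f) : Ext F (img f Q) P' := by
  intro α hα
  have hfQ := hf.mono hQ
  obtain ⟨j, hj, hjf, -⟩ := hf.symm
  obtain ⟨g, hg, -, hfg⟩ := hfQ.symm
  obtain ⟨α₀, hα₀, hα₀e⟩ := exists_aut_of_isIso ((hfQ.trans (isIso_autFn hfQ.le_right hα)).trans hg)
  obtain ⟨h, hh, hhe⟩ := he α₀ hα₀
  refine ⟨_, (hj.trans hh).trans hf, fun y hy => ?_⟩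
  obtain ⟨x, hx, rfl⟩ := hfQ.exists_eq hy
  show f (h (j (f x))) = _
  rw [hjf x (hQ hx), hhe x hx, autFn_apply α₀ hx, hα₀e ⟨x, hx⟩]
  exact hfg _ (autFn_mem α hy)

theorem exists_centric_radical_ext [Finite S] {p : ℕ} [Fact p.Prime] (hS : IsPGroup p S)
    (hF : F.IsSaturated p) {Q : Subgroup Ω} (hQ : F.IsFullyNormalized Q) :
    ∃ Q' R, F.IsConj Q Q' ∧ Q' ≤ R ∧ F.IsFullyNormalized R ∧ F.IsCentric R ∧ F.IsRadical p R ∧
      Ext F Q' R := by
  -- enlarge a centric subgroup to which everything extends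
  suffices H : ∀ d, ∀ Q P : Subgroup Ω, Nat.card S ≤ Nat.card P + d → Q ≤ P → F.IsCentric P →
      Ext F Q P → ∃ Q' R, F.IsConj Q Q' ∧ Q' ≤ R ∧ F.IsFullyNormalized R ∧ F.IsCentric R ∧
        F.IsRadical p R ∧ Ext F Q' R by
    have hrec := receptive_of_fullyNormalized hS hF hQ
    have hfc := fullyCentralized_of_receptive hrec
    have hP : Q ⊔ centralizerIn S Q ≤ S := sup_le hQ.1 inf_le_left
    refine H _ Q (Q ⊔ centralizerIn S Q) (Nat.le_add_left _ _) le_sup_left ?_ fun α hα => ?_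
    · refine ⟨hP, fun T hT => ?_⟩
      obtain ⟨f, hf⟩ := isConj_iff.1 hT
      have hfQ := hf.mono (le_sup_left : Q ≤ Q ⊔ centralizerIn S Q)
      have h1 : img f (centralizerIn S Q) = centralizerIn S (img f Q) := by
        refine eq_of_le_of_card inf_le_left (hf.1.img_le le_sup_right fun c hc =>
          map_centralizerIn hf.1 le_sup_left rfl (Subgroup.mem_sup_right hc) hc) ?_
        rw [hf.1.card_img le_sup_right]
        exact hfc.2 _ (isConj_iff.2 ⟨f, hfQ⟩)
      refine (inf_le_inf_left S (Subgroup.centralizer_le (SetLike.coe_subset_coe.2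
        (hf.1.img_le le_sup_left fun x hx => hf.mem (Subgroup.mem_sup_left hx))))).trans ?_
      rw [← centralizerIn, ← h1]
      exact hf.1.img_le le_sup_right fun c hc => hf.mem (Subgroup.mem_sup_right hc)
    · obtain ⟨g, hg, hgα⟩ := exists_extension hrec hα (centralizerIn_le_normalizerIn S Q) fun c hc => by
        have : normConj S Q ⟨c, centralizerIn_le_normalizerIn S Q hc⟩ = 1 := (normConj_eq_one_iff _).2 hc
        rw [this, mul_one, mul_inv_cancel]
        exact Subgroup.one_mem _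
      refine ⟨g, ⟨hg, eq_of_le_of_card hP (hg.img_le le_rfl (sup_mapsTo hg le_sup_left le_sup_right
        (fun x hx => Subgroup.mem_sup_left ?_) fun c hc => Subgroup.mem_sup_right ?_)) (hg.card_img le_rfl).ge⟩,
        hgα⟩
      · rw [hgα x hx]
        exact autFn_mem α hx
      · exact map_centralizerIn hg le_sup_left
          ((img_congr hgα).trans (isIso_autFn hQ.1 hα).2) (Subgroup.mem_sup_right hc) hc
  intro d
  induction d using Nat.strong_induction_on with
  | _ d ih =>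
  intro Q P hd hQP hc he
  obtain ⟨R, f, hR, hf, himg, -⟩ := exists_fullyNormalized_map hS hF hc.1
  have hfP : IsIso F P R f := ⟨hf.mono (le_normalizerIn hc.1), himg⟩
  have hcR : F.IsCentric R :=
    ⟨hR.1, fun T hT => hc.2 T (isConj_trans (isConj_iff.2 ⟨f, hfP⟩) hT)⟩
  have hQR : img f Q ≤ R := hfP.1.img_le hQP fun x hx => hfP.mem (hQP hx)
  have heR := he.transport hQP hfP
  have hconj : F.IsConj Q (img f Q) := isConj_iff.2 ⟨f, hfP.mono hQP⟩
  by_cases hr : F.IsRadical p R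
  · exact ⟨_, R, hconj, hQR, hR, hcR, hr, heR⟩
  have hA := fullyAutomized_of_fullyNormalized hS hF hR
  set M := NK S R (pCoreAut F p R)
  have hRM : R < M := lt_NK_pCoreAut hS hA hr
  have hMS : M ≤ S := NK_le _ _ _
  have hlt : Nat.card P < Nat.card M := by
    rw [← hfP.card_eq]
    refine lt_of_le_of_ne (have := finite_of_le hMS; Subgroup.card_le_of_le hRM.le) fun e => hRM.ne ?_
    exact eq_of_le_of_card hMS hRM.le e.ge
  have hMle : Nat.card M ≤ Nat.card S := Subgroup.card_le_of_le hMS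
  obtain ⟨Q', T, h1, h2⟩ := ih (Nat.card S - Nat.card M) (by omega) (img f Q) M (by omega) (hQR.trans hRM.le)
    (centric_mono hcR hRM.le hMS) fun α hα => by
      obtain ⟨g, hg, hgα⟩ := heR α hα
      obtain ⟨β, hβ, hβe⟩ := exists_aut_of_isIso hg
      obtain ⟨k, hk, hkβ, hkM⟩ := exists_extension_NK (receptive_of_fullyNormalized hS hF hR) hβ
        (pCoreAut F p R) fun u hu =>
          ⟨pCoreAut_le_autInducedBy hA (conj_mem_pCoreAut hβ hu.2), conj_mem_pCoreAut hβ hu.2⟩
      have hk' := hk.mono (le_sup_right : M ≤ R ⊔ M)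
      refine ⟨k, ⟨hk', eq_of_le_of_card hMS (hk'.img_le le_rfl hkM) (hk'.card_img le_rfl).ge⟩, fun x hx => ?_⟩
      rw [hkβ x (hQR hx), autFn_apply β (hQR hx), hβe ⟨x, hQR hx⟩]
      exact hgα x hx
  exact ⟨Q', T, isConj_trans hconj h1, h2⟩

end Cfsg.Agent.FusionStable
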