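import Cfsg.Agent.Lib.FusionStable.Basic
import Cfsg.Agent.Lib.Fusion.Group
import Cfsg.Agent.Lib.PStab.ZJControl

/-
p-stable fusion systems of groups and `Z(J(S))`.

Main results (namespace `Cfsg.Agent.FusionStable`):
* `isNormalizerPStable_of_fusion` : a group with p-stable fusion system is stable in the normalizer form;
* `core_ne_bot` : then `Z(J(P))` is a nontrivial normal subgroup of the fusion system.
-/

set_option autoImplicit false
open scoped commutatorElement

namespace Cfsg.Agent.FusionStable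

open Cfsg Cfsg.FusionSystem Cfsg.Agent.Fusion Cfsg.Agent.FusionChain

variable {G : Type*} [Group G] [Finite G] {p : ℕ} [Fact p.Prime]

omit [Finite G] [Fact p.Prime] in
theorem map_pCore_le {H : Type*} [Group H] (e : G ≃* H) :
    (Cfsg.pCore p G).map e.toMonoidHom ≤ Cfsg.pCore p H :=
  le_pCore_of_normal _ (Subgroup.Normal.map
    (Subgroup.sSup_normal _ fun _ h => h.1 : (Cfsg.pCore p G).Normal) _ e.surjective)
    ((Sylow.sSup_of_normal {N : Subgroup G | N.Normal ∧ IsPGroup p N} (fun _ h => h.2) fun _ h => h.1).map _)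

theorem isNormalizerPStable_of_fusion (P : Sylow p G)
    (hst : ∀ Q, (groupFusionSystem (P : Subgroup G)).IsFullyNormalized Q →
      StableAt (groupFusionSystem (P : Subgroup G)) p Q) : Cfsg.IsNormalizerPStable p G := by
  intro Q hQ g hg hquad
  obtain ⟨x, -, hx⟩ := (isSylowIn_top P).exists_conj_le hQ le_top
  set c := (MulAut.conj x).toMonoidHom with hc
  set Q' := Q.map c with hQ'
  have hQ'P : Q' ≤ (P : Subgroup G) := by rintro _ ⟨q, hq, rfl⟩; exact hx q hq
  set N := Subgroup.normalizer (Q : Set G)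
  set A := (groupFusionSystem (P : Subgroup G)).autGroup Q' with hA
  have hmem : ∀ n : N, (MulAut.conj x) (n : G) ∈ normalizerIn (⊤ : Subgroup G) Q' := fun n => by
    rw [normalizerIn_top, hQ', hc]
    exact Subgroup.le_normalizer_map _ ⟨(n : G), n.2, rfl⟩
  let ι : N →* normalizerIn (⊤ : Subgroup G) Q' := (c.comp N.subtype).codRestrict _ hmem
  let φ : N →* A := ((normConj ⊤ Q').comp ι).codRestrict A fun n => by
    rw [hA, autGroup_group hQ'P, ← range_normConj]
    exact ⟨ι n, rfl⟩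
  have hsurj : Function.Surjective φ := by
    rintro ⟨α, hα⟩
    rw [hA, autGroup_group hQ'P, ← range_normConj] at hα
    obtain ⟨⟨m, hm⟩, rfl⟩ := hα
    have hm' : (MulAut.conj x)⁻¹ m ∈ N := by
      rw [normalizerIn_top, hQ', hc, ← Subgroup.map_normalizer_eq_of_bijective Q (MulAut.conj x).bijective] at hm
      obtain ⟨n, hn, rfl⟩ := hm
      show (MulAut.conj x)⁻¹ ((MulAut.conj x) n) ∈ N
      rwa [MulAut.inv_apply_self]
    refine ⟨⟨_, hm'⟩, Subtype.ext (congrArg (normConj ⊤ Q') (Subtype.ext ?_))⟩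
    show (MulAut.conj x) ((MulAut.conj x)⁻¹ m) = m
    exact MulEquiv.apply_symm_apply (MulAut.conj x) m
  have hker : φ.ker = (Subgroup.centralizer (Q : Set G)).subgroupOf N := by
    ext n
    rw [MonoidHom.mem_ker, Subgroup.mem_subgroupOf, Subgroup.mem_centralizer_iff]
    constructor
    · intro h q hq
      have h1 := congrArg (fun α : MulAut Q' => ((α ⟨c q, Subgroup.mem_map_of_mem _ hq⟩ : Q') : G))
        (congrArg Subtype.val h)
      change c n * c q * (c n)⁻¹ = c q at h1
      rw [← map_mul, ← map_inv, ← map_mul] at h1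
      have h2 : (n : G) * q * (n : G)⁻¹ = q := (MulAut.conj x).injective h1
      exact (mul_inv_eq_iff_eq_mul.1 h2).symm
    · intro h
      refine Subtype.ext (MulEquiv.ext fun y => Subtype.ext ?_)
      obtain ⟨q, hq, hqy⟩ := y.2
      show c n * (y : G) * (c n)⁻¹ = (y : G)
      rw [← hqy, ← map_mul, ← map_inv, ← map_mul, ← h q hq, mul_inv_cancel_right]
  let e := (QuotientGroup.quotientMulEquivOfEq hker.symm).trans (QuotientGroup.quotientKerEquivOfSurjective φ hsurj)
  have he : e (QuotientGroup.mk ⟨g, hg⟩) = φ ⟨g, hg⟩ := rfl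
  -- the automorphism acts quadratically
  have hq' : IsQuad ((φ ⟨g, hg⟩ : A) : MulAut Q') := by
    intro a
    obtain ⟨q, hq, hqy⟩ := a.2
    have h1 := PStab.dl_dl_eq_one hg hquad hq
    unfold PStab.dl at h1
    refine Subtype.ext ?_
    show (c g * (a : G)⁻¹ * (c g)⁻¹) * a * (c g * (a : G)⁻¹ * (c g)⁻¹) * (c g * (c g * a * (c g)⁻¹) * (c g)⁻¹) = 1
    rw [← hqy]
    simp only [← map_mul, ← map_inv]
    rw [show g * q⁻¹ * g⁻¹ * q * (g * q⁻¹ * g⁻¹) * (g * (g * q * g⁻¹) * g⁻¹) =
      (q⁻¹ * (g * q * g⁻¹))⁻¹ * (g * (q⁻¹ * (g * q * g⁻¹)) * g⁻¹) by group, h1, map_one]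
  have key := stableAt_of_forall_fullyNormalized P.isPGroup' (isSaturated_group P) hst hQ'P _ (φ ⟨g, hg⟩).2 hq'
  obtain ⟨a, ha, hae⟩ := key
  have hae' : a = φ ⟨g, hg⟩ := Subtype.ext hae
  subst hae'
  have h2 := map_pCore_le e.symm ⟨_, ha, rfl⟩
  rwa [show e.symm.toMonoidHom (φ ⟨g, hg⟩) = QuotientGroup.mk ⟨g, hg⟩ from by
    rw [← he]; exact e.symm_apply_apply _] at h2

/-- The fusion system has a nontrivial normal subgroup. -/
theorem core_ne_bot (hp : p ≠ 2) (P : Sylow p G) (hP : (P : Subgroup G) ≠ ⊥)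
    (hst : ∀ Q, (groupFusionSystem (P : Subgroup G)).IsFullyNormalized Q →
      StableAt (groupFusionSystem (P : Subgroup G)) p Q) : (groupFusionSystem (P : Subgroup G)).core ≠ ⊥ := by
  obtain ⟨hZP, hZne, -⟩ := PStab.isConjugacyFunctor_centerThompsonAOf (P : Subgroup G) P.isPGroup'
  set Z := Cfsg.centerThompsonAOf (P : Subgroup G)
  have hnorm : (groupFusionSystem (P : Subgroup G)).IsNormal Z := by
    refine isNormal_iff.2 ⟨hZP, fun R f hf => ?_⟩
    obtain ⟨hRP, g, hg⟩ := isMap_group_iff.1 hf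
    obtain ⟨n, hn, hne⟩ := PStab.ctl hp G (isNormalizerPStable_of_fusion P hst) P R g hRP
      (by rintro _ ⟨a, ha, rfl⟩; exact (hg a ha).1)
    refine ⟨fun x => n * x * n⁻¹, isMap_group_iff.2 ⟨sup_le hRP hZP, n, fun x hx => ⟨?_, rfl⟩⟩,
      fun x hx => (hne x hx).trans (hg x hx).2.symm, fun q hq => (Subgroup.mem_normalizer_iff.1 hn q).1 hq⟩
    have hle : R ⊔ Z ≤ (P : Subgroup G).comap (MulAut.conj n).toMonoidHom := by
      refine sup_le (fun y hy => ?_) (fun y hy => ?_)
      · show n * y * n⁻¹ ∈ (P : Subgroup G)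
        rw [hne y hy]
        exact (hg y hy).1
      · exact hZP ((Subgroup.mem_normalizer_iff.1 hn y).1 hy)
    exact hle hx
  intro h
  exact hZne hP (le_bot_iff.1 (h ▸ le_sSup hnorm))

end Cfsg.Agent.FusionStable
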