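import Cfsg.Agent.EqLemmas
import Cfsg.Agent.Lib.FusionStable.GroupZJ
import Cfsg.Agent.Lib.Fusion.ZJFunctor
import Cfsg.Agent.Lib.Fusion.Normal
import Cfsg.Agent.S3836

/-
A p-stable fusion system of a finite group (p odd) is constrained.
Main result: `isConstrained`.

If `Q = O_p(F)` is not centric, put `K = C_G(Q)` and `K̄ = K / Z(Q)`; this is p-stable, so `N(Z(J(S̄)))`
controls its fusion, and the preimage of `Z(J(S̄))` is strongly closed with a strongly closed central
series, hence normal in `F`, hence inside `Z(Q)`: impossible.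
-/

set_option autoImplicit false

namespace Cfsg.Agent.FusionStable

open Cfsg Cfsg.FusionSystem Cfsg.Agent.Fusion Cfsg.Agent.FusionChain
open scoped commutatorElement

universe u

variable {G : Type u} [Group G] [Finite G] {p : ℕ} [Fact p.Prime]

/-- In a stable group, `S`-conjugates of an element of `Z(J(S))` stay inside it. -/
theorem conj_mem_centerThompson (hp : p ≠ 2) (hst : Cfsg.IsNormalizerPStable p G) (S : Sylow p G)
    {x g : G} (hx : x ∈ Cfsg.centerThompsonAOf (S : Subgroup G)) (hg : g * x * g⁻¹ ∈ S) :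
    g * x * g⁻¹ ∈ Cfsg.centerThompsonAOf (S : Subgroup G) := by
  obtain ⟨n, hn, he⟩ := PStab.ctl hp G hst S {x} g
    (Set.singleton_subset_iff.2 (PStab.centerThompsonAOf_le _ hx))
    (by rintro _ ⟨a, ha, rfl⟩; rw [Set.mem_singleton_iff.1 ha]; exact hg)
  rw [← he x rfl]
  exact (Subgroup.mem_normalizer_iff.1 hn x).1 hx

theorem isConstrained (hp : p ≠ 2) (P : Sylow p G) (hst : Cfsg.IsNormalizerPStable p G) :
    (groupFusionSystem (P : Subgroup G)).IsConstrained p := by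
  classical
  set S := (P : Subgroup G) with hSdef
  set F := groupFusionSystem S
  have hS : IsPGroup p S := P.isPGroup'
  have hF : F.IsSaturated p := isSaturated_group P
  set Q := F.core with hQdef
  have hQ : F.IsNormal Q := isNormal_core
  by_cases hc : centralizerIn S Q ≤ Q
  · exact isConstrained_of_normal hF hQ hc
  exfalso
  set H := Subgroup.normalizer (Q : Set G) with hH
  set K := Subgroup.centralizer (Q : Set G) with hK
  -- extensions of maps normalize `Q`
  have hext : ∀ (U : Subgroup G) (f : G → G), IsMap F U f → ∀ x ∈ U,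
      ∃ h ∈ H, f x = h * x * h⁻¹ := by
    intro U f hf x hx
    obtain ⟨g, hg, hgf, hgQ⟩ := (FusionChain.isNormal_iff.1 hQ).2 U f hf
    obtain ⟨-, h, hh⟩ := isMap_group_iff.1 hg
    refine ⟨h, Coprime.mem_normalizer_of_forall fun q hq => ?_, ?_⟩
    · rw [← (hh q (Subgroup.mem_sup_right hq)).2]
      exact hgQ q hq
    · rw [← hgf x hx]
      exact (hh x (Subgroup.mem_sup_left hx)).2
  have hSH : S ≤ H := fun s hs => Coprime.mem_normalizer_of_forall fun q hq =>
    FusionChain.mapsTo_of_normal hQ (IsMap.conj (F := F) hQ.1 hs) le_rfl q hq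
  have hKn : ∀ h ∈ H, ∀ k ∈ K, h * k * h⁻¹ ∈ K := by
    intro h hh k hk
    refine Subgroup.mem_centralizer_iff.2 fun q hq => ?_
    have hq' : h⁻¹ * q * h ∈ Q := by
      have := (Subgroup.mem_normalizer_iff.1 (inv_mem hh) q).1 hq
      rwa [inv_inv] at this
    have := Subgroup.mem_centralizer_iff.1 hk _ hq'
    calc q * (h * k * h⁻¹) = h * ((h⁻¹ * q * h) * k) * h⁻¹ := by group
      _ = h * (k * (h⁻¹ * q * h)) * h⁻¹ := by rw [this]
      _ = h * k * h⁻¹ * q := by group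
  have hKH : K ≤ H := fun k hk => Coprime.mem_normalizer_of_forall fun q hq => by
    rw [← Subgroup.mem_centralizer_iff.1 hk q hq, mul_inv_cancel_right]
    exact hq
  set C := S ⊓ K with hC
  have hCsyl : IsSylowIn p C K := by
    have hPH : IsSylowIn p S H := ⟨hSH, hS, fun D hD _ hDp => P.is_maximal' hDp hD⟩
    exact hPH.inf_normal hKH hKn
  -- the quotient `K / Z(Q)`
  set Z := Q ⊓ K with hZ
  have hZK : Z ≤ K := inf_le_right
  have hZc : ∀ z ∈ Z, ∀ k ∈ K, k * z = z * k :=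
    fun z hz k hk => (Subgroup.mem_centralizer_iff.1 hk z hz.1).symm
  have hZC : Z ≤ C := fun z hz => ⟨hQ.1 hz.1, hz.2⟩
  haveI hZn : (Z.subgroupOf K).Normal := ⟨fun z hz k => by
    refine Subgroup.mem_subgroupOf.2 ?_
    show (k : G) * (z : G) * (k : G)⁻¹ ∈ Z
    rw [hZc _ (Subgroup.mem_subgroupOf.1 hz) k k.2, mul_inv_cancel_right]
    exact Subgroup.mem_subgroupOf.1 hz⟩
  have hstK : Cfsg.IsNormalizerPStable p K := S3836.result hst K
  have hstQ : Cfsg.IsNormalizerPStable p (K ⧸ Z.subgroupOf K) :=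
    PStab.isNormalizerPStable_quotient hp hstK _
      ((Fusion.isPGroup_subgroupOf hZK).2 (hS.to_le (hZC.trans inf_le_left)))
      fun k _ z hz => Subtype.ext (hZc _ (Subgroup.mem_subgroupOf.1 hz) k k.2)
  set π := QuotientGroup.mk' (Z.subgroupOf K) with hπ
  have hCmap : (C.subgroupOf K).map K.subtype = C := Subgroup.map_subgroupOf_eq_of_le inf_le_right
  let R₁ : Sylow p K :=
    { toSubgroup := C.subgroupOf K
      isPGroup' := (Fusion.isPGroup_subgroupOf inf_le_right).2 (hS.to_le inf_le_left)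
      is_maximal' := fun {D} hD hCD => by
        have h1 := hCsyl.2.2 (D.map K.subtype) (hCmap ▸ Subgroup.map_mono hCD)
          (Subgroup.map_subtype_le D) (hD.map _)
        exact Subgroup.map_injective K.subtype_injective (h1.trans hCmap.symm) }
  let Cb : Sylow p (K ⧸ Z.subgroupOf K) := R₁.mapSurjective (QuotientGroup.mk'_surjective _)
  have hCb : ∀ x : K, π x ∈ Cb ↔ (x : G) ∈ C := by
    intro x
    constructor
    · rintro ⟨y, hy, hxy⟩
      have h1 := QuotientGroup.eq.1 hxy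
      have h2 : (y : G) ∈ C := hy
      have h3 : ((y⁻¹ * x : K) : G) ∈ C := hZC h1
      have := C.mul_mem h2 h3
      simpa using this
    · exact fun hx => ⟨x, hx, rfl⟩
  set W := Cfsg.centerThompsonAOf (Cb : Subgroup (K ⧸ Z.subgroupOf K)) with hW
  have hWC : W ≤ (Cb : Subgroup (K ⧸ Z.subgroupOf K)) := PStab.centerThompsonAOf_le _
  set R := (W.comap π).map K.subtype with hR
  have hmemR : ∀ {x : G}, x ∈ R ↔ ∃ hx : x ∈ K, π ⟨x, hx⟩ ∈ W := by
    intro x
    constructor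
    · rintro ⟨y, hy, rfl⟩
      exact ⟨y.2, hy⟩
    · rintro ⟨hx, h⟩
      exact ⟨⟨x, hx⟩, h, rfl⟩
  have hRC : R ≤ C := by
    intro x hx
    obtain ⟨hxK, h⟩ := hmemR.1 hx
    exact (hCb ⟨x, hxK⟩).1 (hWC h)
  have hZR : Z ≤ R := fun z hz => hmemR.2 ⟨hz.2, by
    rw [show π ⟨z, hz.2⟩ = 1 from (QuotientGroup.eq_one_iff _).2 (Subgroup.mem_subgroupOf.2 hz)]
    exact one_mem _⟩
  -- `Z` and `R` are strongly closed
  have hZsc : F.StronglyClosed Z := by
    refine stronglyClosed_iff.2 ⟨inf_le_left.trans hQ.1, fun U f hf x hxU hxZ => ?_⟩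
    obtain ⟨h, hh, he⟩ := hext U f hf x hxU
    rw [he]
    exact ⟨(Subgroup.mem_normalizer_iff.1 hh x).1 hxZ.1, hKn h hh x hxZ.2⟩
  have hRn : ∀ n ∈ H, (∀ c ∈ C, n * c * n⁻¹ ∈ C) → ∀ x ∈ R, n * x * n⁻¹ ∈ R := by
    intro n hn hnC x hx
    obtain ⟨hxK, hxW⟩ := hmemR.1 hx
    let α : K →* K := MonoidHom.mk' (fun k => ⟨n * k * n⁻¹, hKn n hn k k.2⟩)
      fun a b => Subtype.ext (by simp [mul_assoc])
    have hαZ : Z.subgroupOf K ≤ (Z.subgroupOf K).comap α := fun z hz =>
      ⟨(Subgroup.mem_normalizer_iff.1 hn _).1 (Subgroup.mem_subgroupOf.1 hz).1, hKn n hn z z.2⟩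
    let ᾱ := QuotientGroup.map (Z.subgroupOf K) (Z.subgroupOf K) α hαZ
    have hinj : Set.InjOn ᾱ ((Cb : Subgroup (K ⧸ Z.subgroupOf K)) : Set (K ⧸ Z.subgroupOf K)) := by
      intro a _ b _ hab
      obtain ⟨a, rfl⟩ := QuotientGroup.mk_surjective a
      obtain ⟨b, rfl⟩ := QuotientGroup.mk_surjective b
      have h1 := QuotientGroup.eq.1 hab
      refine QuotientGroup.eq.2 (Subgroup.mem_subgroupOf.2 ?_)
      have h2 : n * ((a⁻¹ * b : K) : G) * n⁻¹ ∈ Z := by
        have := Subgroup.mem_subgroupOf.1 h1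
        simpa [α, mul_assoc] using this
      refine ⟨(Subgroup.mem_normalizer_iff.1 hn _).2 h2.1, (a⁻¹ * b : K).2⟩
    haveI : Finite C := Finite.of_injective (fun c : C => (c : G)) Subtype.val_injective
    have himg : (Cb : Subgroup (K ⧸ Z.subgroupOf K)).map ᾱ = (Cb : Subgroup (K ⧸ Z.subgroupOf K)) := by
      refine Subgroup.eq_of_le_of_card_ge ?_ ?_
      · rintro _ ⟨c, hc, rfl⟩
        obtain ⟨c, rfl⟩ := QuotientGroup.mk_surjective c
        exact (hCb (α c)).2 (hnC _ ((hCb c).1 hc))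
      · exact (Nat.card_congr (Equiv.Set.imageOfInjOn ᾱ _ hinj)).le
    have h1 : ᾱ (π ⟨x, hxK⟩) ∈ W.map ᾱ := ⟨_, hxW, rfl⟩
    rw [hW, PStab.map_centerThompsonAOf ᾱ hinj, himg] at h1
    exact hmemR.2 ⟨hKn n hn x hxK, h1⟩
  have hRsc : F.StronglyClosed R := by
    refine stronglyClosed_iff.2 ⟨hRC.trans inf_le_left, fun U f hf x hxU hxR => ?_⟩
    obtain ⟨h, hh, he⟩ := hext U f hf x hxU
    have hfx : f x ∈ S := hf.mem hxU
    rw [he] at hfx ⊢
    obtain ⟨k, hk, hconj⟩ := hCsyl.exists_conj_le (H := C.map (MulAut.conj h).toMonoidHom)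
      ((hS.to_le inf_le_left).map _) (by
        rintro _ ⟨c, hc, rfl⟩
        exact hKn h hh c hc.2)
    set n := k * h with hn
    have hnH : n ∈ H := H.mul_mem (hKH hk) hh
    have hnC : ∀ c ∈ C, n * c * n⁻¹ ∈ C := fun c hc => by
      have := hconj _ ⟨c, hc, rfl⟩
      simpa [hn, mul_assoc] using this
    have hy := hRn n hnH hnC x hxR
    obtain ⟨hyK, hyW⟩ := hmemR.1 hy
    have hxK' : h * x * h⁻¹ ∈ K := hKn h hh x (hmemR.1 hxR).1
    refine hmemR.2 ⟨hxK', ?_⟩
    have heq : π ⟨h * x * h⁻¹, hxK'⟩ =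
        π ((⟨k, hk⟩ : K)⁻¹) * π ⟨n * x * n⁻¹, hyK⟩ * (π ((⟨k, hk⟩ : K)⁻¹))⁻¹ := by
      have e : (⟨h * x * h⁻¹, hxK'⟩ : K) =
          (⟨k, hk⟩ : K)⁻¹ * ⟨n * x * n⁻¹, hyK⟩ * ((⟨k, hk⟩ : K)⁻¹)⁻¹ :=
        Subtype.ext (by simp [hn, mul_assoc])
      rw [e]
      simp only [map_mul, map_inv]
    rw [heq]
    refine conj_mem_centerThompson hp hstQ Cb hyW ?_
    rw [← heq]
    exact (hCb _).2 ⟨hfx, hxK'⟩
  -- `R` is normal, hence inside `Z`
  have hRnormal : F.IsNormal R := by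
    refine isNormal_of_chain hS hF 2 (fun i => if i = 0 then ⊥ else if i = 1 then Z else R) rfl rfl
      ?_ hRsc ?_ ?_
    · refine monotone_nat_of_le_succ fun i => ?_
      rcases i with _ | _ | i
      · simp
      · simpa using hZR
      · simp
    · intro i _ hi1
      rcases i with _ | _ | i
      · exact absurd hi1 (by decide)
      · simpa using hZsc
      · simpa using hRsc
    · intro i hi
      rcases i with _ | _ | i
      · refine le_of_eq (Subgroup.commutator_eq_bot_iff_le_centralizer.2 fun r hr => ?_)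
        refine Subgroup.mem_centralizer_iff.2 fun z hz => ?_
        exact (hZc z (by simpa using hz) r (hRC hr).2).symm
      · refine Subgroup.commutator_le.2 fun a ha b hb => ?_
        have hb' : b ∈ R := by simpa using hb
        obtain ⟨haK, haW⟩ := hmemR.1 ha
        obtain ⟨hbK, hbW⟩ := hmemR.1 hb'
        have hcomm : Commute (π ⟨a, haK⟩) (π ⟨b, hbK⟩) :=
          Subgroup.mem_centralizer_iff.1 hbW.2 _ haW.1
        have h1 : π ⁅(⟨a, haK⟩ : K), ⟨b, hbK⟩⁆ = 1 := by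
          rw [map_commutatorElement]
          exact commutatorElement_eq_one_iff_commute.2 hcomm
        have h2 := Subgroup.mem_subgroupOf.1 ((QuotientGroup.eq_one_iff _).1 h1)
        simpa [commutatorElement_def] using h2
      · omega
  have hRQ : R ≤ Q := le_sSup hRnormal
  have hne : (Cb : Subgroup (K ⧸ Z.subgroupOf K)) ≠ ⊥ := by
    intro hb
    refine hc fun x hx => ?_
    have hxK : x ∈ K := hx.2
    have h1 := (hCb ⟨x, hxK⟩).2 ⟨hx.1, hxK⟩
    rw [← SetLike.mem_coe] at h1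
    have h2 : π ⟨x, hxK⟩ ∈ (Cb : Subgroup (K ⧸ Z.subgroupOf K)) := h1
    rw [hb, Subgroup.mem_bot] at h2
    exact (Subgroup.mem_subgroupOf.1 ((QuotientGroup.eq_one_iff _).1 h2)).1
  refine (PStab.isConjugacyFunctor_centerThompsonAOf (Cb : Subgroup (K ⧸ Z.subgroupOf K))
    Cb.isPGroup').2.1 hne ((Subgroup.eq_bot_iff_forall _).2 fun w hw => ?_)
  obtain ⟨y, rfl⟩ := QuotientGroup.mk_surjective w
  exact (QuotientGroup.eq_one_iff _).2 (Subgroup.mem_subgroupOf.2 ⟨hRQ (hmemR.2 ⟨y.2, hw⟩), y.2⟩)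

end Cfsg.Agent.FusionStable
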